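import Groth.Agent.Lib.HeightOneHull5.Basic
import Groth.Agent.Lib.CatCM.Basic
import Groth.Agent.Lib.FiniteQuot.DepthDescent
import Groth.Agent.Lib.Altitude.Scheme

/-!
# Finiteness criteria for `A^(1)`
-/

set_option autoImplicit false
set_option linter.all false

universe u

open scoped nonZeroDivisors Pointwise
open IsLocalRing RingTheory.Sequence

noncomputable section

namespace GrothLib.HeightOneHull5

variable {A : Type u} [CommRing A] [IsDomain A] [IsNoetherianRing A]

/-- Over a universally catenary domain with finite normalisation, `A^(1)` is finite. -/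
theorem heightOneHullFinite_of_univCatenary (hA : CAlg.IsUniversallyCatenary A)
    (hint : Module.Finite A (integralClosure A (FractionRing A))) : EGA4.HeightOneHullFinite A := by
  let K := FractionRing A
  let A' := integralClosure A K
  haveI : Module.Finite A A' := hint
  haveI : IsNoetherianRing A' := IsNoetherianRing.of_finite A A'
  haveI : IsFractionRing A' K := IsIntegralClosure.isFractionRing_of_finite_extension A K K A'
  haveI : IsIntegrallyClosed A' := integralClosure.isIntegrallyClosedOfFiniteExtension K
  haveI : FaithfulSMul A A' := (faithfulSMul_iff_algebraMap_injective A A').2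
    (fun a b h => IsFractionRing.injective A K (congrArg Subtype.val h))
  refine heightOneHullFinite_of_le (Subalgebra.toSubmodule A') (Module.Finite.iff_fg.1 hint) fun x hx => ?_
  let e := FractionRing.algEquiv A' K
  obtain ⟨r, hr⟩ := NormalSerre.mem_range_of_forall_height_one (e.symm x) (by
    intro P _ hP
    let p := P.comap (algebraMap A A')
    haveI : p.IsPrime := Ideal.IsPrime.comap _
    haveI : P.LiesOver p := ⟨rfl⟩
    obtain ⟨t, s, ht, hs, -, heq⟩ := Altitude.height_add_trdeg A A' p P
    haveI : IsLocalization (⊥ : Submonoid A) A := IsLocalization.self (fun a ha => by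
      rw [Submonoid.mem_bot] at ha; subst ha; exact isUnit_one)
    have h0 := heq ⊥ A bot_le hA
    have ht0 : t = 0 := by
      haveI : Algebra.IsAlgebraic A A' := inferInstance
      rw [trdeg_eq_zero] at ht
      exact_mod_cast ht.symm
    have hs0 : s = 0 := by
      rw [trdeg_eq_zero] at hs
      exact_mod_cast hs.symm
    subst ht0 hs0
    have hp : p.height = 1 := by simpa [hP] using h0.symm
    obtain ⟨c, hc, a, ha⟩ := hx p hp
    refine ⟨algebraMap A A' a, algebraMap A A' c, hc, e.injective ?_⟩
    rw [map_mul, AlgEquiv.apply_symm_apply, AlgEquiv.commutes, AlgEquiv.commutes]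
    exact ha.trans (mul_comm _ _))
  have : algebraMap A' K r = x := by rw [← e.commutes, hr, AlgEquiv.apply_symm_apply]
  exact this ▸ r.2

section Extension

variable {B : Type u} [CommRing B] [IsDomain B] [Algebra A B] [FaithfulSMul A B] [Module.Finite A B]

theorem mem_minimalPrimes_span_singleton {C : Type u} [CommRing C] [IsDomain C] [IsNoetherianRing C] {Q : Ideal C} [Q.IsPrime]
    {a : C} (ha : a ≠ 0) (haQ : a ∈ Q) (hQ : Q.height ≤ 1) : Q ∈ (Ideal.span {a}).minimalPrimes := by
  refine ⟨⟨inferInstance, (Ideal.span_singleton_le_iff_mem Q).2 haQ⟩, fun Z hZ hle => ?_⟩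
  haveI := hZ.1
  by_contra hne
  have h1 : Z.height < Q.height := Ideal.height_strict_mono_of_isPrime (lt_of_le_not_ge hle hne)
  have h2 : 1 ≤ Z.height := one_le_height fun e => ha (by
    have := hZ.2 (Ideal.mem_span_singleton_self a)
    rwa [e, Ideal.mem_bot] at this)
  exact absurd (lt_of_le_of_lt h2 (lt_of_lt_of_le h1 hQ)) (lt_irrefl _)

/-- A finite extension domain of a domain with finite `A^(1)`: height one primes contract to height
one primes. -/
theorem height_comap_eq_one (hA : EGA4.HeightOneHullFinite A) (q : Ideal B) [q.IsPrime] (hq : q.height = 1) :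
    (q.comap (algebraMap A B)).height = 1 := by
  haveI := finite_hullOver (B := B) hA
  let C := hullOver A B
  haveI : IsNoetherianRing C := IsNoetherianRing.of_finite A C
  letI : Algebra B C := ((algebraMap B (FractionRing B)).codRestrict C.toSubring algebraMap_mem_hullOver).toAlgebra
  haveI : IsScalarTower A B C := IsScalarTower.of_algebraMap_eq fun a =>
    Subtype.ext (IsScalarTower.algebraMap_apply A B (FractionRing B) a)
  haveI : Algebra.IsIntegral B C := Algebra.IsIntegral.tower_top A
  haveI : FaithfulSMul B C := (faithfulSMul_iff_algebraMap_injective B C).2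
    (fun a b h => IsFractionRing.injective B (FractionRing B) (congrArg Subtype.val h))
  obtain ⟨Q, -, hQp, hQq⟩ := Ideal.exists_ideal_over_prime_of_isIntegral q (⊥ : Ideal C)
    (le_of_eq_of_le (Ideal.comap_bot_of_injective (algebraMap B C) (FaithfulSMul.algebraMap_injective B C)) bot_le)
  haveI := hQp
  have hQ1 : Q.height ≤ 1 := by
    have := height_le_height_comap (A := B) Q
    rwa [hQq, hq] at this
  have hQ0 : Q ≠ ⊥ := fun e => Ideal.ne_bot_of_height_eq_one hq (by
    rw [← hQq, e]
    exact Ideal.comap_bot_of_injective (algebraMap B C) (FaithfulSMul.algebraMap_injective B C))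
  obtain ⟨a, haQ, ha⟩ := Submodule.exists_mem_ne_zero_of_ne_bot hQ0
  have hass : Q ∈ associatedPrimes C (C ⧸ Ideal.span {a}) := by
    refine Module.associatedPrimes.minimalPrimes_annihilator_subset_associatedPrimes C (C ⧸ Ideal.span {a}) ?_
    rw [Ideal.annihilator_quotient]
    exact mem_minimalPrimes_span_singleton ha haQ hQ1
  have h := height_comap_of_mem_associatedPrimes
    (hartogs_subalgebra C fun x D hD h => mem_hullOver_of_ideal D hD h) ha hass
  rw [← hQq, Ideal.comap_comap, ← IsScalarTower.algebraMap_eq A B C]
  exact h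

theorem heightOneHullFinite_finite_extension [IsNoetherianRing B] (hA : EGA4.HeightOneHullFinite A) :
    EGA4.HeightOneHullFinite B := by
  classical
  haveI := finite_hullOver (B := B) hA
  obtain ⟨T, hT⟩ := Module.Finite.iff_fg.1 (inferInstance : Module.Finite A (Subalgebra.toSubmodule (hullOver A B)))
  refine heightOneHullFinite_of_le (Submodule.span B (T : Set (FractionRing B))) (Submodule.fg_span T.finite_toSet)
    fun x hx => ?_
  suffices hmem : x ∈ hullOver A B by
    have h1 : x ∈ Submodule.span A (T : Set (FractionRing B)) := by rw [hT]; exact hmem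
    exact Submodule.span_le_restrictScalars A B _ h1
  intro p hp h1
  let D : Ideal B :=
    { carrier := {b | ∃ c, algebraMap B (FractionRing B) c = algebraMap B (FractionRing B) b * x}
      add_mem' := by
        rintro b b' ⟨c, hc⟩ ⟨c', hc'⟩
        exact ⟨c + c', by rw [map_add, map_add, hc, hc', add_mul]⟩
      zero_mem' := ⟨0, by rw [map_zero, zero_mul]⟩
      smul_mem' := by
        rintro r b ⟨c, hc⟩
        exact ⟨r * c, by rw [smul_eq_mul, map_mul, map_mul, hc, mul_assoc]⟩ }
  by_cases hle : D.comap (algebraMap A B) ≤ p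
  · obtain ⟨Q, hDQ, hQp, hQc⟩ := Ideal.exists_ideal_over_prime_of_isIntegral p D hle
    haveI := hQp
    have hQ0 : Q ≠ ⊥ := fun e => Ideal.ne_bot_of_height_eq_one h1 (by
      rw [← hQc, e]
      exact Ideal.comap_bot_of_injective (algebraMap A B) (FaithfulSMul.algebraMap_injective A B))
    have hQ1 : Q.height = 1 := le_antisymm (by
      have := height_le_height_comap (A := A) Q
      rwa [hQc, h1] at this) (one_le_height hQ0)
    obtain ⟨s, hs, c, hc⟩ := hx Q hQ1
    exact absurd (hDQ (show s ∈ D from ⟨c, hc⟩)) hs
  · obtain ⟨s, ⟨c, hc⟩, hs⟩ := SetLike.not_le_iff_exists.1 hle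
    exact ⟨s, hs, c, by rw [hc, ← IsScalarTower.algebraMap_apply]⟩

end Extension

/-- `A^(1)` satisfies `(S_2)` when finite. -/
theorem hasSk_two_hullAlg (hA : EGA4.HeightOneHullFinite A) : LocCoh.HasSk 2 (hullAlg A) (hullAlg A) := by
  haveI := finite_hullAlg hA
  let C := hullAlg A
  haveI : IsNoetherianRing C := IsNoetherianRing.of_finite A C
  intro p hp
  let L := Localization.AtPrime p
  haveI : IsNoetherianRing L := IsLocalization.isNoetherianRing p.primeCompl L inferInstance
  haveI : IsDomain L := IsLocalization.isDomain_localization p.primeCompl_le_nonZeroDivisors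
  rw [FiniteQuot.supportDim_localizedModule_self, ← WithBot.coe_natCast, ← WithBot.coe_min,
    WithBot.coe_le_coe, FiniteQuot.depth_localizedModule_self p L]
  by_cases h2 : (2 : ℕ∞) ≤ p.height
  · refine le_trans (min_le_left _ _) ?_
    have hp0 : p ≠ ⊥ := fun e => by
      rw [e, Ideal.height_bot] at h2
      simp at h2
    obtain ⟨a, hap, ha⟩ := Submodule.exists_mem_ne_zero_of_ne_bot hp0
    have hnot : ¬ (p : Set C) ⊆ ⋃ Q ∈ associatedPrimes C (C ⧸ Ideal.span {a}), (Q : Set C) := by
      intro hsub
      obtain ⟨Q, hQ, hle⟩ := (Ideal.subset_union_prime_finite (associatedPrimes.finite C (C ⧸ Ideal.span {a})) (f := id) ⊥ ⊥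
        (fun Q hQ _ _ => hQ.1)).1 hsub
      haveI := hQ.isPrime
      have h := height_comap_of_mem_associatedPrimes
        (hartogs_subalgebra C fun x D hD h => mem_hullAlg_of_ideal D hD h) ha hQ
      have h' := (h2.trans (Ideal.height_mono hle)).trans ((height_le_height_comap (A := A) Q).trans h.le)
      exact absurd h' (by simp)
    obtain ⟨b, hb, hbQ⟩ := Set.not_subset.1 hnot
    rw [biUnion_associatedPrimes_eq_compl_regular] at hbQ
    have hb' : IsSMulRegular (C ⧸ Ideal.span {a}) b := Set.notMem_compl_iff.1 hbQ
    have hreg : IsWeaklyRegular C [a, b] := by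
      rw [isWeaklyRegular_cons_iff, isWeaklyRegular_singleton_iff]
      refine ⟨IsRegular.of_ne_zero ha |>.left, ?_⟩
      exact (LinearEquiv.isSMulRegular_congr (Submodule.quotEquivOfEq (a • (⊤ : Submodule C C)) (Ideal.span {a})
        (by rw [← Submodule.ideal_span_singleton_smul, smul_eq_mul, Ideal.mul_top])) b).2 hb'
    have hregL : IsWeaklyRegular L [algebraMap C L a, algebraMap C L b] := hreg.of_isLocalization L p.primeCompl
    exact (Depth.le_idealDepth_iff_exists (maximalIdeal L)
      (Depth.smul_top_ne_top (maximalIdeal.isMaximal _).ne_top) 2).2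
        ⟨[algebraMap C L a, algebraMap C L b], rfl, fun r hr => by
          rcases List.mem_pair.1 hr with rfl | rfl
          · exact (IsLocalization.AtPrime.to_map_mem_maximal_iff L p a).2 hap
          · exact (IsLocalization.AtPrime.to_map_mem_maximal_iff L p b).2 hb, hregL⟩
  · rcases eq_or_ne (LocCoh.depth L L) 0 with h0 | h0
    · have hf := CMBasics.depth_self_eq_zero_iff.1 h0
      have : p.height = 0 := by
        have h := IsLocalization.AtPrime.ringKrullDim_eq_height p L
        rw [ringKrullDim_eq_zero_of_isField hf] at h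
        exact (WithBot.coe_eq_zero.1 h.symm)
      rw [this]
      exact le_trans (min_le_right _ _) zero_le
    · refine le_trans (min_le_right _ _) (le_trans ?_ (Order.one_le_iff_ne_zero.2 h0))
      exact Order.le_of_lt_add_one (by simpa [one_add_one_eq_two] using not_le.1 h2)

end GrothLib.HeightOneHull5
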