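import Groth.Prelude
import Groth.Agent.Lib.Altitude.Basic
import Groth.Agent.Lib.NormalSerre.AssPrincipal
import Groth.Agent.Lib.CMBasics.Basic
import Groth.Agent.Lib.CanonMod.CodimOneConn
import Mathlib.RingTheory.Regular.Flat
import Mathlib.RingTheory.Ideal.GoingUp
import Mathlib.RingTheory.Localization.Finiteness

/-!
# The ring `A^(1)` of a Noetherian domain and its finiteness
-/

set_option autoImplicit false
set_option linter.all false

universe u

open scoped nonZeroDivisors Pointwise
open IsLocalRing RingTheory.Sequence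

noncomputable section

attribute [local instance] FractionRing.liftAlgebra

namespace GrothLib.HeightOneHull5

variable (A : Type u) [CommRing A] [IsDomain A]

local notation "K" => FractionRing A

section Over

variable (B : Type u) [CommRing B] [IsDomain B] [Algebra A B] [FaithfulSMul A B]

/-- The fractions of `B` lying in the localisation of `B` at every height one prime of `A`. -/
def hullOver : Subalgebra A (FractionRing B) where
  carrier := {x | ∀ (p : Ideal A) [p.IsPrime], p.height = 1 →
    ∃ s : A, s ∉ p ∧ ∃ b : B, algebraMap B (FractionRing B) b = algebraMap A (FractionRing B) s * x}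
  mul_mem' := by
    intro x y hx hy p hp h1
    obtain ⟨s, hs, b, hb⟩ := hx p h1
    obtain ⟨t, ht, c, hc⟩ := hy p h1
    refine ⟨s * t, hp.mul_notMem hs ht, b * c, ?_⟩
    rw [map_mul, map_mul, hb, hc]; ring
  add_mem' := by
    intro x y hx hy p hp h1
    obtain ⟨s, hs, b, hb⟩ := hx p h1
    obtain ⟨t, ht, c, hc⟩ := hy p h1
    refine ⟨s * t, hp.mul_notMem hs ht, algebraMap A B t * b + algebraMap A B s * c, ?_⟩
    rw [map_mul, map_add, map_mul, map_mul, hb, hc, ← IsScalarTower.algebraMap_apply,
      ← IsScalarTower.algebraMap_apply]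
    ring
  algebraMap_mem' := by
    intro r p hp h1
    refine ⟨1, fun h => hp.ne_top ((Ideal.eq_top_iff_one p).2 h), algebraMap A B r, ?_⟩
    rw [map_one, one_mul, ← IsScalarTower.algebraMap_apply]

variable {A B}

theorem mem_hullOver {x : FractionRing B} : x ∈ hullOver A B ↔ ∀ (p : Ideal A) [p.IsPrime], p.height = 1 →
    ∃ s : A, s ∉ p ∧ ∃ b : B, algebraMap B (FractionRing B) b = algebraMap A (FractionRing B) s * x := Iff.rfl

theorem algebraMap_mem_hullOver (b : B) : algebraMap B (FractionRing B) b ∈ hullOver A B :=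
  fun p hp _ => ⟨1, fun h => hp.ne_top ((Ideal.eq_top_iff_one p).2 h), b, by rw [map_one, one_mul]⟩

/-- The Hartogs property. -/
theorem mem_hullOver_of_ideal {x : FractionRing B} (D : Ideal A)
    (hD : ∀ (p : Ideal A) [p.IsPrime], p.height = 1 → ¬ D ≤ p)
    (h : ∀ d ∈ D, algebraMap A (FractionRing B) d * x ∈ hullOver A B) : x ∈ hullOver A B := by
  intro p hp h1
  obtain ⟨d, hd, hdp⟩ := SetLike.not_le_iff_exists.1 (hD p h1)
  obtain ⟨s, hs, b, hb⟩ := h d hd p h1
  exact ⟨s * d, hp.mul_notMem hs hdp, b, by rw [hb, map_mul, mul_assoc]⟩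

end Over

/-- The ring `A^(1)` as a subalgebra. -/
def hullAlg : Subalgebra A K where
  carrier := EGA4.heightOneHull A
  mul_mem' := by
    intro x y hx hy p hp h1
    obtain ⟨s, hs, b, hb⟩ := hx p h1
    obtain ⟨t, ht, c, hc⟩ := hy p h1
    refine ⟨s * t, hp.mul_notMem hs ht, b * c, ?_⟩
    rw [map_mul, map_mul, hb, hc]; ring
  add_mem' := by
    intro x y hx hy p hp h1
    obtain ⟨s, hs, b, hb⟩ := hx p h1
    obtain ⟨t, ht, c, hc⟩ := hy p h1
    refine ⟨s * t, hp.mul_notMem hs ht, t * b + s * c, ?_⟩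
    rw [map_mul, map_add, map_mul, map_mul, hb, hc]
    ring
  algebraMap_mem' := by
    intro r p hp h1
    exact ⟨1, fun h => hp.ne_top ((Ideal.eq_top_iff_one p).2 h), r, by rw [map_one, one_mul]⟩

variable {A}

@[simp] theorem mem_hullAlg {x : K} : x ∈ hullAlg A ↔ x ∈ EGA4.heightOneHull A := Iff.rfl

theorem finite_hullAlg (h : EGA4.HeightOneHullFinite A) : Module.Finite A (hullAlg A) := by
  obtain ⟨B, hB, hfin⟩ := h
  obtain rfl : B = hullAlg A := SetLike.coe_injective hB
  exact hfin

theorem heightOneHullFinite_of_le [IsNoetherianRing A] (S : Submodule A K) (hS : S.FG)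
    (h : EGA4.heightOneHull A ⊆ (S : Set K)) : EGA4.HeightOneHullFinite A := by
  haveI : Module.Finite A S := Module.Finite.iff_fg.2 hS
  refine ⟨hullAlg A, rfl, ?_⟩
  exact Module.Finite.of_injective (Submodule.inclusion (p := Subalgebra.toSubmodule (hullAlg A)) (p' := S) h)
    (Submodule.inclusion_injective h)

section Finite

variable {B : Type u} [CommRing B] [IsDomain B] [Algebra A B] [FaithfulSMul A B] [Module.Finite A B]

theorem finite_hullOver [IsNoetherianRing A] (hA : EGA4.HeightOneHullFinite A) :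
    Module.Finite A (hullOver A B) := by
  classical
  haveI := finite_hullAlg hA
  let L := FractionRing B
  haveI : IsScalarTower A K L := inferInstance
  haveI : Module.Finite K L := inferInstance
  let m := Module.finrank K L
  let bs : Module.Basis (Fin m) K L := Module.finBasis K L
  obtain ⟨T, hT⟩ := (Module.Finite.fg_top : (⊤ : Submodule A B).FG)
  obtain ⟨d, hd⟩ := IsLocalization.exist_integer_multiples A⁰ (T ×ˢ (Finset.univ : Finset (Fin m)))
    (fun bi => bs.repr (algebraMap B L bi.1) bi.2)
  have key : ∀ (b : B) (i : Fin m), ∃ a : A, algebraMap A K a = (d : A) • bs.repr (algebraMap B L b) i := by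
    intro b i
    let φ : B →ₗ[A] K := (d : A) • (((bs.coord i).restrictScalars A).comp (IsScalarTower.toAlgHom A B L).toLinearMap)
    have : (⊤ : Submodule A B).map φ ≤ LinearMap.range (Algebra.linearMap A K) := by
      rw [← hT, Submodule.map_span_le]
      intro t ht
      obtain ⟨a, ha⟩ := hd (t, i) (Finset.mem_product.2 ⟨ht, Finset.mem_univ i⟩)
      exact ⟨a, ha⟩
    exact this (Submodule.mem_map_of_mem (f := φ) (Submodule.mem_top (x := b)))
  have hmem : ∀ (x : hullOver A B) (i : Fin m), (d : A) • bs.repr (x : L) i ∈ hullAlg A := by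
    intro x i p hp h1
    obtain ⟨s, hs, b, hb⟩ := x.2 p h1
    obtain ⟨a, ha⟩ := key b i
    refine ⟨s, hs, a, ha.trans ?_⟩
    rw [hb, ← Algebra.smul_def, ← IsScalarTower.algebraMap_smul K s, map_smul, Finsupp.smul_apply,
      smul_eq_mul, mul_smul_comm]
  let Φ : hullOver A B →ₗ[A] (Fin m → hullAlg A) :=
    { toFun := fun x i => ⟨(d : A) • bs.repr (x : L) i, hmem x i⟩
      map_add' := fun x y => by
        funext i
        apply Subtype.ext
        simp
      map_smul' := fun r x => by
        funext i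
        apply Subtype.ext
        show (d : A) • bs.repr ((r • (x : L))) i = r • ((d : A) • bs.repr (x : L) i)
        rw [← IsScalarTower.algebraMap_smul K r (x : L), map_smul, Finsupp.smul_apply, IsScalarTower.algebraMap_smul,
          smul_comm] }
  refine Module.Finite.of_injective Φ fun x y h => Subtype.ext (bs.repr.injective (Finsupp.ext fun i => ?_))
  have h1 : (d : A) • bs.repr (x : L) i = (d : A) • bs.repr (y : L) i := congrArg Subtype.val (congrFun h i)
  rw [Algebra.smul_def, Algebra.smul_def] at h1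
  exact mul_left_cancel₀ (IsFractionRing.to_map_ne_zero_of_mem_nonZeroDivisors d.2) h1

end Finite

section Integral

variable {C : Type u} [CommRing C] [Algebra A C] [Algebra.IsIntegral A C]

theorem height_le_height_comap (q : Ideal C) [q.IsPrime] : q.height ≤ (q.comap (algebraMap A C)).height := by
  let f : PrimeSpectrum C → PrimeSpectrum A := PrimeSpectrum.comap (algebraMap A C)
  have hf : StrictMono f := fun a b hab => Ideal.IsIntegral.comap_lt_comap (I := a.asIdeal) (J := b.asIdeal) hab
  have := Order.height_le_height_apply_of_strictMono f hf ⟨q, inferInstance⟩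
  rw [← PrimeSpectrum.height_eq_orderHeight, ← PrimeSpectrum.height_eq_orderHeight] at this
  exact this

end Integral

theorem comap_ne_bot {C : Type u} [CommRing C] [IsDomain C] [Algebra A C] [Algebra.IsIntegral A C]
    {q : Ideal C} (hq : q ≠ ⊥) : q.comap (algebraMap A C) ≠ ⊥ :=
  fun h => hq (Ideal.eq_bot_of_comap_eq_bot h)

theorem one_le_height {p : Ideal A} [p.IsPrime] (hp : p ≠ ⊥) : 1 ≤ p.height := by
  rw [Order.one_le_iff_ne_zero, ne_eq, Ideal.height_eq_zero_iff]
  rw [IsDomain.minimalPrimes_eq_singleton_bot, Set.mem_singleton_iff]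
  exact hp

/-- An algebra with the Hartogs property has no associated prime of a principal ideal above a prime
of height at least two. -/
theorem height_comap_of_mem_associatedPrimes {C : Type u} [CommRing C] [IsDomain C] [IsNoetherianRing C]
    [Algebra A C] [Algebra.IsIntegral A C]
    (H : ∀ D : Ideal A, (∀ (p : Ideal A) [p.IsPrime], p.height = 1 → ¬ D ≤ p) →
      ∀ a c : C, a ≠ 0 → (∀ d ∈ D, a ∣ algebraMap A C d * c) → a ∣ c)
    {a : C} (ha : a ≠ 0) {Q : Ideal C} (hQ : Q ∈ associatedPrimes C (C ⧸ Ideal.span {a})) :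
    (Q.comap (algebraMap A C)).height = 1 := by
  obtain ⟨hQp, x, hx⟩ := isAssociatedPrime_iff.1 hQ
  obtain ⟨c, rfl⟩ := Ideal.Quotient.mk_surjective x
  have hmem : ∀ r, r ∈ Q ↔ a ∣ r * c := fun r => by
    rw [hx, Submodule.mem_colon_singleton, Submodule.mem_bot, Algebra.smul_def, Ideal.Quotient.algebraMap_eq,
      ← map_mul, Ideal.Quotient.eq_zero_iff_mem, Ideal.mem_span_singleton]
  have hac : ¬ a ∣ c := fun h => hQp.ne_top ((Ideal.eq_top_iff_one Q).2 ((hmem 1).2 (by rwa [one_mul])))
  have hQ0 : Q ≠ ⊥ := fun h => ha (by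
    have := (hmem a).2 (dvd_mul_right a c)
    rwa [h, Ideal.mem_bot] at this)
  haveI : (Q.comap (algebraMap A C)).IsPrime := Ideal.IsPrime.comap _
  refine le_antisymm ?_ (one_le_height (comap_ne_bot hQ0))
  by_contra h2
  refine hac (H (Q.comap (algebraMap A C)) (fun p _ hp1 hle => h2 ((Ideal.height_mono hle).trans hp1.le)) a c ha
    fun d hd => (hmem _).1 hd)

theorem hartogs_subalgebra {L : Type u} [Field L] [Algebra A L] (S : Subalgebra A L)
    (h : ∀ (x : L) (D : Ideal A), (∀ (p : Ideal A) [p.IsPrime], p.height = 1 → ¬ D ≤ p) →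
      (∀ d ∈ D, algebraMap A L d * x ∈ S) → x ∈ S) :
    ∀ D : Ideal A, (∀ (p : Ideal A) [p.IsPrime], p.height = 1 → ¬ D ≤ p) →
      ∀ a c : S, a ≠ 0 → (∀ d ∈ D, a ∣ algebraMap A S d * c) → a ∣ c := by
  intro D hD a c ha hdiv
  have ha' : (a : L) ≠ 0 := fun e => ha (Subtype.ext e)
  have hmem : (c : L) / a ∈ S := h _ D hD fun d hd => by
    obtain ⟨e, he⟩ := hdiv d hd
    have he' : algebraMap A L d * (c : L) = a * e := congrArg Subtype.val he
    rw [← mul_div_assoc, he', mul_div_cancel_left₀ _ ha']
    exact e.2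
  exact ⟨⟨_, hmem⟩, Subtype.ext (mul_div_cancel₀ (c : L) ha').symm⟩

/-- The Hartogs property for `A^(1)`. -/
theorem mem_hullAlg_of_ideal {x : K} (D : Ideal A) (hD : ∀ (p : Ideal A) [p.IsPrime], p.height = 1 → ¬ D ≤ p)
    (h : ∀ d ∈ D, algebraMap A K d * x ∈ hullAlg A) : x ∈ hullAlg A := by
  intro p hp h1
  obtain ⟨d, hd, hdp⟩ := SetLike.not_le_iff_exists.1 (hD p h1)
  obtain ⟨s, hs, b, hb⟩ := h d hd p h1
  exact ⟨s * d, hp.mul_notMem hs hdp, b, by rw [hb, map_mul, mul_assoc]⟩

end GrothLib.HeightOneHull5
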