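import Groth.Agent.Lib.HeightOneHull5.ZClosFam
import Groth.Agent.Lib.HeightOneHull5.Criteria
import Groth.Agent.Lib.QCoh.Support
import Groth.Agent.Lib.Altitude.Scheme
import Groth.Agent.Lib.AssPts.Points

/-!
# Coherence of the Z-closure from a covering family of coherent direct images
-/

set_option autoImplicit false
set_option linter.all false

universe u

open CategoryTheory CategoryTheory.Limits AlgebraicGeometry TopologicalSpace Opposite

noncomputable section

namespace GrothLib.HeightOneHull5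

open GrothLib.WeakAss (primeAt notMem_primeAt_iff)
open GrothLib.ZClosure

variable {X : Scheme.{u}} [IsLocallyNoetherian X]

/-- For a closed set the Z-closure is the direct image from its complement. -/
theorem isCoh_H0_closed (T : Closeds X) (F : X.Modules)
    (h : Coh.IsCoh ((_root_.ZClos.resPush T.compl).obj F)) :
    Coh.IsCoh ((_root_.ZClos.H0 (T : Set X)).obj F) := by
  let Tm : _root_.ZClos.Cl (T : Set X) := ⟨T, subset_rfl⟩
  have I : IsTerminal Tm :=
    IsTerminal.ofUniqueHom (fun S => homOfLE (show S ≤ Tm from S.2)) fun S m => Subsingleton.elim _ _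
  exact QCoh.isCoh_of_iso (@asIso _ _ _ _ (colimit.ι ((_root_.ZClos.diagram (T : Set X)).obj F) Tm)
    (isIso_ι_of_isTerminal I _)) h

theorem isCoh_H0_of_family (Z : Set X) (hZ : StableUnderSpecialization Z) (F : X.Modules) (hF : Coh.IsCoh F)
    (hass : ∀ x : X, Curv2.IsAssPoint F x → x ∉ Z)
    (hX : ∀ (V : X.Opens) (hV : IsAffineOpen V) (x : X) (hxV : x ∈ V), Curv2.IsAssPoint F x →
      CAlg.IsUniversallyCatenary (Γ(X, V) ⧸ (hV.primeIdealOf ⟨x, hxV⟩).asIdeal) ∧
        CAlg.IsN1 (Γ(X, V) ⧸ (hV.primeIdealOf ⟨x, hxV⟩).asIdeal))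
    (𝒯 : Set (_root_.ZClos.Cl Z)) (hcov : ∀ z ∈ Z, ∃ T ∈ 𝒯, z ∈ (T.1 : Set X))
    (hd : ∀ T ∈ 𝒯, Coh.IsCoh ((_root_.ZClos.resPush T.U).obj F)) :
    Coh.IsCoh ((_root_.ZClos.H0 Z).obj F) := by
  haveI := hF.1
  haveI := isQuasicoherent_H0 (Z := Z) F
  refine ⟨inferInstance, (QCoh.isFiniteType_iff_moduleFinite _).2 fun V hV => ?_⟩
  haveI : IsNoetherianRing Γ(X, V) := IsLocallyNoetherian.component_noetherian ⟨V, hV⟩
  haveI : Module.Finite Γ(X, V) Γ(F, V) := QCoh.moduleFinite_of_isFiniteType F hF.2 hV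
  let e : Γ(X, V) ≃+* Γ(X, V) := RingEquiv.refl _
  have hpf : ∀ i : Idx Z V, (primeFam e i).asIdeal = primeAt i.1 i.2.1 := fun i => Ideal.comap_id _
  have hpt : ∀ (P : Ideal Γ(X, V)) [P.IsPrime], ∃ (y : X) (hy : y ∈ V), primeAt y hy = P := by
    intro P hP
    have hy : hV.fromSpec ⟨P, hP⟩ ∈ V := by
      have h : hV.fromSpec ⟨P, hP⟩ ∈ Set.range hV.fromSpec := ⟨_, rfl⟩
      rwa [hV.range_fromSpec] at h
    exact ⟨_, hy, WeakAss.primeAt_fromSpec hV ⟨P, hP⟩ hy⟩
  haveI : Module.Finite Γ(X, V) (Fam.fam Γ(X, V) (primeFam (Z := Z) e) Γ(F, V)) := by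
    refine Fam.finite_devissage _ fun p hp _ => ?_
    haveI := hp.isPrime
    obtain ⟨x, hxV, rfl⟩ := hpt p
    have hxass : Curv2.IsAssPoint F x := (AssPts.ass_iff F hV hxV).2 hp
    have hfin : EGA4.HeightOneHullFinite (Γ(X, V) ⧸ primeAt x hxV) := by
      suffices ∀ q : PrimeSpectrum Γ(X, V), q = hV.primeIdealOf ⟨x, hxV⟩ →
          EGA4.HeightOneHullFinite (Γ(X, V) ⧸ q.asIdeal) from
        this ⟨primeAt x hxV, inferInstance⟩ (QCoh.primeAt_eq_primeIdealOf hV hxV)
      rintro q rfl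
      haveI : IsNoetherianRing (Γ(X, V) ⧸ (hV.primeIdealOf ⟨x, hxV⟩).asIdeal) :=
        isNoetherianRing_of_surjective Γ(X, V) _ _ Ideal.Quotient.mk_surjective
      exact heightOneHullFinite_of_univCatenary (hX V hV x hxV hxass).1 (hX V hV x hxV hxass).2
    refine Fam.finite_quotient (primeAt x hxV) hfin ⟨⟨x, hxV, hass x hxass⟩, hpf _⟩ fun P hP hP1 => ?_
    obtain ⟨y, hyV, hy⟩ := hpt (P.comap (Ideal.Quotient.mk (primeAt x hxV)))
    have hle : primeAt x hxV ≤ primeAt y hyV := fun a ha => by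
      rw [hy, Ideal.mem_comap, Ideal.Quotient.eq_zero_iff_mem.2 ha]
      exact zero_mem _
    refine ⟨⟨y, hyV, fun hyZ => ?_⟩, (hpf _).trans hy⟩
    obtain ⟨T, hT, hyT⟩ := hcov y hyZ
    have hxy : x ⤳ y := (AssPts.specializes_iff hV hxV hyV).mpr hle
    have h2 := two_le_dim_quot F hF T.1.isClosed.stableUnderSpecialization (isCoh_H0_closed T.1 F (hd T hT))
      hxass (fun hx => hass x hxass (T.2 hx)) hyT hxy
    letI := X.presheaf.algebra_section_stalk ⟨y, hyV⟩
    haveI := FlatFP.isLocalization_stalk_primeAt hV hyV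
    rw [Altitude.ringKrullDim_quotient_eq_height (L := X.presheaf.stalk y) (primeAt y hyV) _ (primeAt x hxV) ?_ hle,
      hy, Ideal.map_comap_of_surjective _ Ideal.Quotient.mk_surjective, hP1] at h2
    · norm_cast at h2
    · ext a
      rw [← not_iff_not, notMem_primeAt_iff, Scheme.mem_basicOpen _ a x hxV, Ideal.mem_comap, Ideal.mem_comap,
        IsLocalRing.mem_maximalIdeal, mem_nonunits_iff, not_not]
      exact Iff.of_eq (congrArg IsUnit (TopCat.Presheaf.germ_stalkSpecializes_apply X.presheaf hyV hxy a))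
  exact moduleFinite_H0_sections e F (AddEquiv.refl _) (fun a m => rfl) hZ hV

end GrothLib.HeightOneHull5
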