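import Groth.Agent.Lib.HeightOneHull5.ZClosFam
import Groth.Agent.Lib.TildePure.Sections
import Groth.Agent.Lib.QCoh.TildeFinite

/-!
# Coherence of the Z-closure on an affine scheme
-/

set_option autoImplicit false
set_option linter.all false

universe u

open CategoryTheory CategoryTheory.Limits AlgebraicGeometry TopologicalSpace Opposite

noncomputable section

namespace GrothLib.HeightOneHull5

open GrothLib.WeakAss (primeAt notMem_primeAt_iff)
open GrothLib.ZClosure

variable (A : Type u) [CommRing A] (M : Type u) [AddCommGroup M] [Module A M]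

/-- Global functions. -/
def eTop : A ≃+* Γ(Spec (CommRingCat.of A), ⊤) :=
  (Scheme.ΓSpecIso (CommRingCat.of A)).symm.commRingCatIsoToRingEquiv

/-- Global sections of `M~`. -/
def psiTop : M ≃+ Γ(EGA4.tildeOf A M, (⊤ : (Spec (CommRingCat.of A)).Opens)) :=
  AddEquiv.ofBijective (StructureSheaf.toOpenₗ A M ⊤).toAddMonoidHom
    (StructureSheaf.toOpenₗ_top_bijective (R := A) (M := M))

theorem psiTop_smul (a : A) (m : M) : psiTop A M (a • m) = eTop A a • psiTop A M m :=
  ((StructureSheaf.toOpenₗ A M ⊤).map_smul a m).trans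
    (Subtype.ext (funext fun x => (IsScalarTower.algebraMap_smul (Localization x.1.asIdeal.primeCompl) a _).symm))

theorem primeFam_top {Z : Set (Spec (CommRingCat.of A))}
    (i : Idx Z (⊤ : (Spec (CommRingCat.of A)).Opens)) :
    (primeFam (eTop A) i).asIdeal = (i.1 : PrimeSpectrum A).asIdeal := by
  ext a
  rw [← not_iff_not]
  refine (notMem_primeAt_iff (x := i.1) (hx := i.2.1) (c := eTop A a)).trans ?_
  have h : (Spec (CommRingCat.of A)).basicOpen (eTop A a) = PrimeSpectrum.basicOpen a :=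
    (basicOpen_eq_of_affine' _).trans (congrArg PrimeSpectrum.basicOpen
      ((Scheme.ΓSpecIso (CommRingCat.of A)).inv_hom_id_apply a))
  rw [h]
  rfl

variable [IsNoetherianRing A] [Module.Finite A M]

theorem isLocallyNoetherian_spec : IsLocallyNoetherian (Spec (CommRingCat.of A)) := inferInstance

/-- Sufficiency. -/
theorem isCoh_H0_tilde (hA : ∀ (q : Ideal A) [q.IsPrime], EGA4.HeightOneHullFinite (A ⧸ q))
    (Z : Set (PrimeSpectrum A)) (hZ : StableUnderSpecialization Z)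
    (hass : ∀ x : PrimeSpectrum A, x.asIdeal ∈ associatedPrimes A M → x ∉ Z →
      ∀ y ∈ Z, x.asIdeal ≤ y.asIdeal → (2 : ℕ∞) ≤ (y.asIdeal.map (Ideal.Quotient.mk x.asIdeal)).height) :
    Coh.IsCoh ((_root_.ZClos.H0 (X := Spec (CommRingCat.of A)) Z).obj (EGA4.tildeOf A M)) := by
  haveI := isQuasicoherent_H0 (Z := (Z : Set (Spec (CommRingCat.of A)))) (EGA4.tildeOf A M)
  haveI : Module.Finite A (Fam.fam A (primeFam (Z := (Z : Set (Spec (CommRingCat.of A))))
      (V := ⊤) (eTop A)) M) := by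
    refine Fam.finite_devissage M fun p hp ⟨i, hpi⟩ => ?_
    rw [primeFam_top] at hpi
    haveI := hp.isPrime
    let x : PrimeSpectrum A := ⟨p, inferInstance⟩
    have hxZ : x ∉ Z := fun h => i.2.2 (hZ ((PrimeSpectrum.le_iff_specializes x (i.1 : PrimeSpectrum A)).1 hpi) h)
    refine Fam.finite_quotient p (hA p) ⟨⟨x, trivial, hxZ⟩, primeFam_top A _⟩ fun P hP hP1 => ?_
    let y : PrimeSpectrum A := ⟨P.comap (Ideal.Quotient.mk p), Ideal.IsPrime.comap _⟩
    have hyZ : y ∉ Z := fun hy => by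
      have h2 := hass x hp hxZ y hy (fun a ha => by
        show Ideal.Quotient.mk p a ∈ P
        rw [Ideal.Quotient.eq_zero_iff_mem.2 ha]
        exact zero_mem _)
      rw [show y.asIdeal.map (Ideal.Quotient.mk x.asIdeal) = P from
        Ideal.map_comap_of_surjective _ Ideal.Quotient.mk_surjective P, hP1] at h2
      norm_num at h2
    exact ⟨⟨y, trivial, hyZ⟩, primeFam_top A _⟩
  refine ⟨inferInstance, QCoh.isFiniteType_of_moduleFinite _ (fun _ : PUnit.{u + 1} => ⊤)
    (by simp [IsOpenCover]) (fun _ => isAffineOpen_top _) fun _ => ?_⟩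
  exact moduleFinite_H0_sections (eTop A) (EGA4.tildeOf A M) (psiTop A M) (psiTop_smul A M) hZ (isAffineOpen_top _)

/-- Necessity. -/
theorem heightOneHullFinite_of_isCoh (q : Ideal A) [q.IsPrime]
    (hH : ∀ (Z : Set (PrimeSpectrum A)), StableUnderSpecialization Z →
      (∀ x : PrimeSpectrum A, x.asIdeal ∈ associatedPrimes A (A ⧸ q) → x ∉ Z →
        ∀ y ∈ Z, x.asIdeal ≤ y.asIdeal → (2 : ℕ∞) ≤ (y.asIdeal.map (Ideal.Quotient.mk x.asIdeal)).height) →
      Coh.IsCoh ((_root_.ZClos.H0 (X := Spec (CommRingCat.of A)) Z).obj (EGA4.tildeOf A (A ⧸ q)))) :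
    EGA4.HeightOneHullFinite (A ⧸ q) := by
  classical
  haveI : IsNoetherianRing (A ⧸ q) := isNoetherianRing_of_surjective A _ _ Ideal.Quotient.mk_surjective
  let Z : Set (PrimeSpectrum A) :=
    {y | q ≤ y.asIdeal ∧ (2 : ℕ∞) ≤ (y.asIdeal.map (Ideal.Quotient.mk q)).height}
  have hZ : StableUnderSpecialization Z := fun y z h hy =>
    ⟨hy.1.trans ((PrimeSpectrum.le_iff_specializes y z).2 h),
      hy.2.trans (Ideal.height_mono (Ideal.map_mono ((PrimeSpectrum.le_iff_specializes y z).2 h)))⟩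
  have hqZ : (⟨q, inferInstance⟩ : PrimeSpectrum A) ∉ Z := fun h => by
    have h2 := h.2
    rw [show (⟨q, inferInstance⟩ : PrimeSpectrum A).asIdeal.map (Ideal.Quotient.mk q) = ⊥ from
      Ideal.map_quotient_self q, Ideal.height_bot] at h2
    norm_num at h2
  have hcoh := hH Z hZ fun x hx _ y hy _ => by
    have hxq : x.asIdeal = q :=
      (IsAssociatedPrime.eq_radical (Ideal.IsPrime.isPrimary ‹q.IsPrime›) hx).trans (Ideal.IsPrime.radical ‹q.IsPrime›)
    rw [hxq]
    exact hy.2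
  let X := Spec (CommRingCat.of A)
  let F := EGA4.tildeOf A (A ⧸ q)
  let ZX : Set X := Z
  haveI := hcoh.1
  haveI hfin : Module.Finite Γ(X, ⊤) Γ((_root_.ZClos.H0 ZX).obj F, ⊤) :=
    QCoh.moduleFinite_of_isFiniteType _ hcoh.2 (isAffineOpen_top _)
  obtain ⟨Λ, hinj, hsm, hkey⟩ := exists_famMap (Z := ZX) (eTop A) F (psiTop A (A ⧸ q)) (psiTop_smul A (A ⧸ q))
    hZ (isAffineOpen_top _)
  let i₀ : Idx ZX (⊤ : X.Opens) := ⟨(⟨q, inferInstance⟩ : PrimeSpectrum A), trivial, hqZ⟩
  have hi₀ : (primeFam (eTop A) i₀).asIdeal = q := primeFam_top A i₀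
  letI : Module A Γ((_root_.ZClos.H0 ZX).obj F, (⊤ : X.Opens)) := Module.compHom _ (eTop A).toRingHom
  haveI : Module.Finite A Γ((_root_.ZClos.H0 ZX).obj F, (⊤ : X.Opens)) :=
    (finite_iff_of_semilinear (A := A) (B := Γ(X, ⊤)) (M := Γ((_root_.ZClos.H0 ZX).obj F, (⊤ : X.Opens)))
      (N := Γ((_root_.ZClos.H0 ZX).obj F, (⊤ : X.Opens))) (eTop A).toRingHom (eTop A).surjective id
      (fun _ _ => rfl) Function.bijective_id (fun _ _ => rfl)).2 hfin
  let Λ' : Γ((_root_.ZClos.H0 ZX).obj F, (⊤ : X.Opens)) →ₗ[A] Fam.fam A (primeFam (Z := ZX) (eTop A)) (A ⧸ q) :=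
    { Λ with map_smul' := hsm }
  let θ := (Fam.valQuot q hi₀).comp Λ'
  obtain ⟨G, hG⟩ := (Module.Finite.iff_fg.1 (inferInstance : Module.Finite A (LinearMap.range θ)))
  refine heightOneHullFinite_of_le (Submodule.span (A ⧸ q) (G : Set (FractionRing (A ⧸ q))))
    (Submodule.fg_span G.finite_toSet) fun x hx => ?_
  refine Submodule.span_le_restrictScalars A (A ⧸ q) _ (hG.symm ▸ ?_)
  -- the denominators of `x`
  let B := A ⧸ q
  let j := algebraMap B (FractionRing B)
  let D : Ideal A :=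
    { carrier := {d | ∃ b : B, j b = j (Ideal.Quotient.mk q d) * x}
      add_mem' := by
        rintro d d' ⟨c, hc⟩ ⟨c', hc'⟩
        exact ⟨c + c', by rw [map_add, map_add, map_add, hc, hc', add_mul]⟩
      zero_mem' := ⟨0, by simp⟩
      smul_mem' := by
        rintro r d ⟨c, hc⟩
        exact ⟨Ideal.Quotient.mk q r * c, by rw [smul_eq_mul, map_mul, map_mul, map_mul, hc, mul_assoc]⟩ }
  have hqD : q ≤ D := fun d hd => ⟨0, by rw [Ideal.Quotient.eq_zero_iff_mem.2 hd]; simp [j]⟩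
  have hDq : ¬ D ≤ q := fun hle => by
    obtain ⟨a, b, hb, hab⟩ := IsFractionRing.div_surjective (A := B) x
    obtain ⟨b, rfl⟩ := Ideal.Quotient.mk_surjective b
    refine nonZeroDivisors.ne_zero hb (Ideal.Quotient.eq_zero_iff_mem.2 (hle ⟨a, ?_⟩))
    rw [← hab]
    exact (mul_div_cancel₀ _ (IsFractionRing.to_map_ne_zero_of_mem_nonZeroDivisors hb)).symm
  have hVD : ∀ y : PrimeSpectrum A, D ≤ y.asIdeal → y ∈ Z := by
    intro y hy
    refine ⟨hqD.trans hy, ?_⟩
    haveI : (y.asIdeal.map (Ideal.Quotient.mk q)).IsPrime := Ideal.isPrime_map_quotientMk_of_isPrime (hqD.trans hy)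
    by_contra h2
    have h0 : y.asIdeal.map (Ideal.Quotient.mk q) ≠ ⊥ := fun h0 => hDq (hy.trans (fun a ha => by
      rw [← Ideal.Quotient.eq_zero_iff_mem, ← Ideal.mem_bot, ← h0]
      exact Ideal.mem_map_of_mem _ ha))
    have h1 : (y.asIdeal.map (Ideal.Quotient.mk q)).height = 1 :=
      le_antisymm (Order.le_of_lt_add_one (by simpa [one_add_one_eq_two] using not_le.1 h2)) (one_le_height h0)
    obtain ⟨s, hs, a, ha⟩ := hx _ h1
    obtain ⟨s, rfl⟩ := Ideal.Quotient.mk_surjective s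
    exact hs (Ideal.mem_map_of_mem _ (hy (show s ∈ D from ⟨a, ha⟩)))
  let T : _root_.ZClos.Cl ZX :=
    ⟨⟨PrimeSpectrum.zeroLocus (D : Set A), PrimeSpectrum.isClosed_zeroLocus _⟩, fun y hy => hVD y hy⟩
  choose d hdD hdy using fun y : EGA4.openCompl A D => SetLike.not_le_iff_exists.1 (show ¬ D ≤ (y.1 : PrimeSpectrum A).asIdeal from y.2)
  choose a ha using hdD
  have hcross : ∀ y y' : EGA4.openCompl A D,
      Ideal.Quotient.mk q (d y') * a y = Ideal.Quotient.mk q (d y) * a y' := fun y y' =>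
    IsFractionRing.injective B (FractionRing B) (by rw [map_mul, map_mul, ha, ha]; ring)
  let σ₀ := TildePure.mkSec (A := A) (M := B) (J := D) (fun y => LocalizedModule.mk (a y) ⟨d y, hdy y⟩)
    fun y => ⟨d y, a y, hdy y, fun z hz => by
      rw [LocalizedModule.mk_eq]
      refine ⟨1, ?_⟩
      simp only [Submonoid.smul_def, Submonoid.coe_one, one_smul, Algebra.smul_def, Ideal.Quotient.algebraMap_eq]
      exact hcross z y⟩
  have hT : img T (⊤ : X.Opens) ≤ EGA4.openCompl A D := fun z hz => (mem_img.1 hz).1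
  let σ : Γ(F, img T (⊤ : X.Opens)) := res F hT σ₀
  refine ⟨iota F T ⊤ σ, ?_⟩
  show Fam.valQuot q hi₀ (Λ (iota F T ⊤ σ)) = x
  let y₀ : EGA4.openCompl A D := ⟨(⟨q, inferInstance⟩ : PrimeSpectrum A), hDq⟩
  have hd₀ : d y₀ ∉ (primeFam (eTop A) i₀).asIdeal := fun h => hdy y₀ (hi₀.le h)
  have hsec : (X.presheaf.map (homOfLE (le_top : EGA4.openCompl A D ≤ ⊤)).op) (eTop A (d y₀)) • σ₀ =
      res F le_top (psiTop A B (a y₀)) := TildePure.sec_ext fun y => by
    show algebraMap A (Localization y.1.asIdeal.primeCompl) (d y₀) •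
        LocalizedModule.mk (a y) (⟨d y, hdy y⟩ : y.1.asIdeal.primeCompl) =
      LocalizedModule.mk (a y₀) 1
    rw [IsScalarTower.algebraMap_smul, LocalizedModule.smul'_mk, LocalizedModule.mk_eq]
    refine ⟨1, ?_⟩
    simp only [Submonoid.smul_def, Submonoid.coe_one, one_smul, Algebra.smul_def, Ideal.Quotient.algebraMap_eq]
    exact hcross y y₀
  have hgerm := congrArg (F.presheaf.germ (EGA4.openCompl A D) i₀.1 hDq) hsec
  rw [WeakAss.germ_smul, TopCat.Presheaf.germ_res_apply, germ_res] at hgerm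
  have hval := hkey T σ i₀ (a y₀) (d y₀) hd₀ (by rw [germ_res]; exact hgerm)
  have h1 := Fam.valQuot_eq q hi₀ (Λ (iota F T ⊤ σ)) (a y₀) (d y₀) hd₀ hval
  rw [ha y₀, IsScalarTower.algebraMap_apply A B (FractionRing B)] at h1
  refine (mul_left_cancel₀ (fun h0 => hdy y₀ ?_) h1).symm
  exact Ideal.Quotient.eq_zero_iff_mem.1 (IsFractionRing.injective B (FractionRing B) (h0.trans (map_zero _).symm))

end GrothLib.HeightOneHull5
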