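import Groth.Agent.Lib.HeightOneHull5.FamDevissage
import Groth.Agent.Lib.ZClos.DepthGlobal
import Groth.Agent.Lib.ZClos.Support
import Groth.Agent.Lib.QCoh.Abelian

/-!
# Sections of the Z-closure as families of local fractions
-/

set_option autoImplicit false
set_option linter.all false

universe u

open CategoryTheory CategoryTheory.Limits AlgebraicGeometry TopologicalSpace Opposite

noncomputable section

namespace GrothLib.HeightOneHull5

open GrothLib.WeakAss (primeAt notMem_primeAt_iff)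
open GrothLib.ZClosure

variable {X : Scheme.{u}} {Z : Set X}

theorem isQuasicoherent_H0 [IsLocallyNoetherian X] (F : X.Modules) [F.IsQuasicoherent] :
    ((_root_.ZClos.H0 Z).obj F).IsQuasicoherent :=
  QCoh.isQuasicoherent_colimit ((_root_.ZClos.diagram Z).obj F) fun T => by
    show ((Scheme.Modules.pushforward T.U.ι).obj ((Scheme.Modules.restrictFunctor T.U.ι).obj F)).IsQuasicoherent
    exact QCoh.isQuasicoherent_pushforward _ _

variable (Z) in
/-- The points of `V` off `Z`. -/
abbrev Idx (V : X.Opens) : Type u := {x : X // x ∈ V ∧ x ∉ Z}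

variable {V : X.Opens} {A : Type u} [CommRing A] (e : A ≃+* Γ(X, V))

/-- The primes of `A` at the points off `Z`. -/
def primeFam (i : Idx Z V) : PrimeSpectrum A :=
  ⟨(primeAt i.1 i.2.1).comap e.toRingHom, Ideal.comap_isPrime _ _⟩

theorem isUnit_germ (i : Idx Z V) (a : A) (ha : a ∉ (primeFam e i).asIdeal) :
    IsUnit (X.presheaf.germ V i.1 i.2.1 (e a)) :=
  (Scheme.mem_basicOpen _ (e a) i.1 i.2.1).mp (notMem_primeAt_iff.mp ha)

variable (F : X.Modules) {M : Type u} [AddCommGroup M] [Module A M]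
  (ψ : M ≃+ Γ(F, V)) (hψ : ∀ (a : A) (m : M), ψ (a • m) = e a • ψ m)

include hψ in
theorem exists_toStalk (hV : IsAffineOpen V) [F.IsQuasicoherent] (i : Idx Z V) :
    ∃ L : LocalizedModule (primeFam e i).asIdeal.primeCompl M →+ F.presheaf.stalk i.1,
      Function.Bijective L ∧ ∀ (n : M) (a : A) (ha : a ∉ (primeFam e i).asIdeal),
        X.presheaf.germ V i.1 i.2.1 (e a) • L (LocalizedModule.mk n ⟨a, ha⟩) = F.presheaf.germ V i.1 i.2.1 (ψ n) := by
  letI : Module A (F.presheaf.stalk i.1) :=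
    Module.compHom _ ((X.presheaf.germ V i.1 i.2.1).hom.comp e.toRingHom)
  let g : M →ₗ[A] F.presheaf.stalk i.1 :=
    { toFun := fun m => F.presheaf.germ V i.1 i.2.1 (ψ m)
      map_add' := fun a b => by rw [map_add, map_add]
      map_smul' := fun a m => by
        rw [hψ, WeakAss.germ_smul]
        rfl }
  haveI : IsLocalizedModule (primeFam e i).asIdeal.primeCompl g := by
    refine ⟨fun s => ?_, fun m => ?_, fun {z z'} h => ?_⟩
    · rw [Module.End.isUnit_iff]
      have hu := isUnit_germ e i s s.2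
      exact ⟨fun a b hab => hu.smul_left_cancel.mp hab,
        fun a => ⟨(↑hu.unit⁻¹ : X.presheaf.stalk i.1) • a, by
          show X.presheaf.germ V i.1 i.2.1 (e s) • (↑hu.unit⁻¹ : X.presheaf.stalk i.1) • a = a
          rw [smul_smul, hu.mul_val_inv, one_smul]⟩⟩
    · obtain ⟨c, z, hc, hz⟩ := WeakAss.exists_smul_eq_germ hV i.2.1 m
      refine ⟨⟨ψ.symm z, ⟨e.symm c, fun h => hc ?_⟩⟩, ?_⟩
      · have := Ideal.mem_comap.1 h
        rwa [RingEquiv.toRingHom_eq_coe, RingHom.coe_coe, RingEquiv.apply_symm_apply] at this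
      · show X.presheaf.germ V i.1 i.2.1 (e (e.symm c)) • m = F.presheaf.germ V i.1 i.2.1 (ψ (ψ.symm z))
        rw [RingEquiv.apply_symm_apply, AddEquiv.apply_symm_apply]
        exact hz
    · obtain ⟨c, hc, hcz⟩ := (WeakAss.germ_eq_zero_iff hV i.2.1 (ψ (z - z'))).mp
        (by rw [map_sub, map_sub]; exact sub_eq_zero.mpr h)
      refine ⟨⟨e.symm c, fun h' => hc ?_⟩, ψ.injective ?_⟩
      · have := Ideal.mem_comap.1 h'
        rwa [RingEquiv.toRingHom_eq_coe, RingHom.coe_coe, RingEquiv.apply_symm_apply] at this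
      · show ψ (e.symm c • z) = ψ (e.symm c • z')
        rw [hψ, hψ, RingEquiv.apply_symm_apply, ← sub_eq_zero, ← smul_sub, ← map_sub]
        exact hcz
  let L := IsLocalizedModule.iso (primeFam e i).asIdeal.primeCompl g
  refine ⟨L.toLinearMap.toAddMonoidHom, L.bijective, fun n a ha => ?_⟩
  show a • L (LocalizedModule.mk n ⟨a, ha⟩) = g n
  rw [← map_smul, LocalizedModule.smul'_mk,
    show (LocalizedModule.mk (a • n) (⟨a, ha⟩ : (primeFam e i).asIdeal.primeCompl)) =
      LocalizedModule.mk n 1 from LocalizedModule.mk_cancel (⟨a, ha⟩ : (primeFam e i).asIdeal.primeCompl) n]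
  exact IsLocalizedModule.iso_mk_one _ g n

/-- The stalk of the Z-closure at a point off `Z` as a localised module. -/
theorem mem_img_of_notMem {T : _root_.ZClos.Cl Z} {x : X} (hx : x ∈ V) (hZ : x ∉ Z) : x ∈ img T V :=
  mem_img.2 ⟨fun h => hZ (T.2 h), hx⟩

theorem germ_iota [IsLocallyNoetherian X] (T : _root_.ZClos.Cl Z) (σ : Γ(F, img T V)) {x : X} (hx : x ∈ img T V) :
    ((_root_.ZClos.H0 Z).obj F).presheaf.germ V x ((img_le T V) hx) (iota F T V σ) =
      _root_.ZClos.rhoStalk Z F x (F.presheaf.germ (img T V) x hx σ) := by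
  rw [rhoStalk_germ, rhoApp_app F T, ← res_iota F T (img_le T V) σ ((img_le T (img T V))), germ_res]

variable [IsLocallyNoetherian X] [F.IsQuasicoherent]

include hψ in
/-- Sections of the Z-closure are families of local fractions. -/
theorem exists_famMap (hZ : StableUnderSpecialization Z) (hV : IsAffineOpen V) :
    ∃ Λ : Γ((_root_.ZClos.H0 Z).obj F, V) →+ Fam.fam A (primeFam (Z := Z) e) M,
      Function.Injective Λ ∧ (∀ a t, Λ (e a • t) = a • Λ t) ∧
      ∀ (T : _root_.ZClos.Cl Z) (σ : Γ(F, img T V)) (i : Idx Z V) (n : M) (a : A) (ha : a ∉ (primeFam e i).asIdeal),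
        X.presheaf.germ V i.1 i.2.1 (e a) • F.presheaf.germ (img T V) i.1 (mem_img_of_notMem i.2.1 i.2.2) σ =
            F.presheaf.germ V i.1 i.2.1 (ψ n) →
          (Λ (iota F T V σ)).1 i = LocalizedModule.mk n ⟨a, ha⟩ := by
  classical
  choose L hL hLmk using fun i : Idx Z V => exists_toStalk e F ψ hψ hV i
  let R (i : Idx Z V) : LocalizedModule (primeFam e i).asIdeal.primeCompl M →+
      ((_root_.ZClos.H0 Z).obj F).presheaf.stalk i.1 := (_root_.ZClos.rhoStalk Z F i.1).hom.comp (L i)
  have hR : ∀ i, Function.Bijective (R i) := fun i => (isZClosedAt_of_notMem F i.2.2).comp (hL i)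
  let w (t : Γ((_root_.ZClos.H0 Z).obj F, V)) (i : Idx Z V) : LocalizedModule (primeFam e i).asIdeal.primeCompl M :=
    (AddEquiv.ofBijective (R i) (hR i)).symm (((_root_.ZClos.H0 Z).obj F).presheaf.germ V i.1 i.2.1 t)
  have hw : ∀ t i, R i (w t i) = ((_root_.ZClos.H0 Z).obj F).presheaf.germ V i.1 i.2.1 t :=
    fun t i => AddEquiv.ofBijective_apply_symm_apply (R i) (hR i)
  have key : ∀ (T : _root_.ZClos.Cl Z) (σ : Γ(F, img T V)) (i : Idx Z V) (n : M) (a : A)
      (ha : a ∉ (primeFam e i).asIdeal),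
      X.presheaf.germ V i.1 i.2.1 (e a) • F.presheaf.germ (img T V) i.1 (mem_img_of_notMem i.2.1 i.2.2) σ =
        F.presheaf.germ V i.1 i.2.1 (ψ n) →
      w (iota F T V σ) i = LocalizedModule.mk n ⟨a, ha⟩ := by
    intro T σ i n a ha h
    refine (hR i).1 ((hw _ i).trans ?_)
    rw [germ_iota F T σ (mem_img_of_notMem i.2.1 i.2.2)]
    exact congrArg _ ((isUnit_germ e i a ha).smul_left_cancel.1 (h.trans (hLmk i n a ha).symm))
  have hmem : ∀ t, w t ∈ Fam.fam A (primeFam (Z := Z) e) M := by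
    intro t x
    obtain ⟨T, σ, rfl⟩ := exists_iota_eq F hV.isCompact t
    have hxi := mem_img_of_notMem (T := T) x.2.1 x.2.2
    obtain ⟨c, z, hc, hz⟩ := WeakAss.exists_smul_eq_germ hV x.2.1 (F.presheaf.germ (img T V) x.1 hxi σ)
    have h1 : F.presheaf.germ (img T V) x.1 hxi ((X.presheaf.map (homOfLE (img_le T V)).op) c • σ) =
        F.presheaf.germ (img T V) x.1 hxi (res F (img_le T V) z) := by
      rw [WeakAss.germ_smul, TopCat.Presheaf.germ_res_apply, germ_res, hz]
    obtain ⟨O, hxO, j, j', hO⟩ := exists_res_eq_of_germ_eq F hxi hxi _ _ h1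
    obtain ⟨b, hb, hxb⟩ := hV.exists_basicOpen_le (⟨x.1, hxO⟩ : O) x.2.1
    have hbc : b * c ∉ primeAt x.1 x.2.1 :=
      Ideal.IsPrime.mul_notMem inferInstance (notMem_primeAt_iff.2 hxb) hc
    refine ⟨e.symm (b * c), ψ.symm (b • z), fun h => hbc ?_, fun y hy => key T σ y _ _ hy ?_⟩
    · have := Ideal.mem_comap.1 h
      rwa [RingEquiv.toRingHom_eq_coe, RingHom.coe_coe, RingEquiv.apply_symm_apply] at this
    have hy' : b * c ∉ primeAt y.1 y.2.1 := fun h => hy (by
      show e (e.symm (b * c)) ∈ primeAt y.1 y.2.1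
      rwa [RingEquiv.apply_symm_apply])
    have hyO : y.1 ∈ O := hb (notMem_primeAt_iff.1 fun h => hy' (Ideal.mul_mem_right _ _ h))
    have h2 := congrArg (F.presheaf.germ O y.1 hyO) hO
    rw [germ_res, germ_res, WeakAss.germ_smul, TopCat.Presheaf.germ_res_apply, germ_res] at h2
    rw [RingEquiv.apply_symm_apply, AddEquiv.apply_symm_apply, WeakAss.germ_smul, ← h2, map_mul, smul_smul]
  refine ⟨{ toFun := fun t => ⟨w t, hmem t⟩, map_zero' := ?_, map_add' := ?_ }, ?_, ?_,
    fun T σ i n a ha h => key T σ i n a ha h⟩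
  · exact Subtype.ext (funext fun i => by simp [w])
  · exact fun s t => Subtype.ext (funext fun i => by simp [w])
  · rw [injective_iff_map_eq_zero]
    intro t ht
    obtain ⟨T, σ, rfl⟩ := exists_iota_eq F hV.isCompact t
    refine iota_eq_zero_of_germ hZ F hV.isCompact T σ fun x hx hxZ => ?_
    refine (isZClosedAt_of_notMem F hxZ).1 ?_
    rw [map_zero, ← germ_iota F T σ hx]
    let i : Idx Z V := ⟨x, img_le T V hx, hxZ⟩
    rw [← hw _ i, show w (iota F T V σ) i = 0 from congrFun (congrArg Subtype.val ht) i, map_zero]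
  · intro a t
    refine Subtype.ext (funext fun i => (hR i).1 ?_)
    show R i (w (e a • t) i) = R i (a • w t i)
    rw [hw, WeakAss.germ_smul, ← hw]
    induction w t i using LocalizedModule.induction_on with
    | _ n s =>
      rw [LocalizedModule.smul'_mk]
      refine (isUnit_germ e i s s.2).smul_left_cancel.1 ?_
      have hsm : ∀ (r : X.presheaf.stalk i.1) (z : F.presheaf.stalk i.1),
          _root_.ZClos.rhoStalk Z F i.1 (r • z) = r • _root_.ZClos.rhoStalk Z F i.1 z :=
        fun r z => (QCoh.stalkLin (_root_.ZClos.rhoApp Z F) i.1).map_smul r z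
      show _ • (X.presheaf.germ V i.1 i.2.1 (e a)) • _root_.ZClos.rhoStalk Z F i.1 (L i (LocalizedModule.mk n s)) =
        _ • _root_.ZClos.rhoStalk Z F i.1 (L i (LocalizedModule.mk (a • n) s))
      rw [← hsm, ← hsm, ← hsm, smul_comm, hLmk i n s s.2, hLmk i (a • n) s s.2, hψ, WeakAss.germ_smul]

theorem semilinear_inj_finite [IsNoetherianRing A] {H N : Type u} [AddCommGroup H] [AddCommGroup N] [Module A N]
    {B : Type u} [CommRing B] (e : A ≃+* B) [Module B H] (Λ : H →+ N) (hinj : Function.Injective Λ)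
    (hsm : ∀ a t, Λ (e a • t) = a • Λ t) [Module.Finite A N] : Module.Finite B H := by
  letI : Module A H := Module.compHom H e.toRingHom
  let Λ' : H →ₗ[A] N := { Λ with map_smul' := hsm }
  haveI : IsNoetherian A N := isNoetherian_of_isNoetherianRing_of_finite A N
  haveI := Module.Finite.of_injective Λ' hinj
  exact (finite_iff_of_semilinear (A := A) (B := B) (M := H) (N := H) e.toRingHom e.surjective id (fun _ _ => rfl)
    Function.bijective_id (fun _ _ => rfl)).1 inferInstance

include hψ in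
theorem moduleFinite_H0_sections (hZ : StableUnderSpecialization Z) (hV : IsAffineOpen V) [IsNoetherianRing A]
    [Module.Finite A (Fam.fam A (primeFam (Z := Z) e) M)] :
    Module.Finite Γ(X, V) Γ((_root_.ZClos.H0 Z).obj F, V) := by
  obtain ⟨Λ, hinj, hsm, -⟩ := exists_famMap e F ψ hψ hZ hV
  exact semilinear_inj_finite e Λ hinj hsm

end GrothLib.HeightOneHull5
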